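import Cfsg.Agent.TAB.C2B.Defs_m3
import Cfsg.Agent.H616.M23.Base
import Cfsg.Agent.H651.HNF.Final
import Cfsg.Agent.H609.T5.MFive
import Cfsg.Agent.H546.MFiveFull_m3
import Cfsg.Agent.TAB.M5.Words
import Cfsg.Agent.TAB.M5.Loc_m3
import Cfsg.Agent.H58.Mon.FiveB_m3
import Cfsg.Agent.FastGrp
import Cfsg.Agent.Prune
set_option linter.all false

section
prune_inst 0x7ffefeffefecbbffffff7e7ffffdfffff7fdffffefdff9fbffedebffffffebefebe5fbafefefdbfedef7e23c98fc7b53ffffeeffe36fdc7ffffd5ff45ffbff8fffffbd3d71f7bf7edfff6ffff3f377ae7f3fffffffffffffffffffffffffffffffffffffffff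

-- part: TAB/M5/A
section
prune_inst 0x200000000000000200000000010000000000000000000000000000100000001020000000000000000000000000000000000000000000000000000000000000000000000000000000000000000000000000000000000000000
set_option linter.all false
open scoped Cfsg.Agent.FastGrp

/-!
# The Monster: the elements of order 5 and the section of the class `5A` (helper71, TAB)

* `chr_zero` : the elements of order 5 and fixed rank 0 have the trace `9`;
* `five_cases` : an element of order 5 commuting with a conjugate of `zz` is conjugate to `xu` (trace `134`) or to any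
  element of fixed rank 0 (trace `9`);
* `emb : HN →* MG`, `C(xu) = ⟨xu⟩ × emb(HN)`; `chr_emb`, `cen_emb` : traces and centralizers of `xu * emb h`;
* `secA` : the section.
-/

set_option autoImplicit false
set_option maxRecDepth 100000

namespace Cfsg.Agent.TAB.M5

open Cfsg Cfsg.Agent.BpSpor.MBigModel
open Cfsg.Agent.MonsterX.Space (V)
open Cfsg.Agent.LThreeMBTr (chr chr_conj)
open Cfsg.Agent.H875.M23.TraceChar (chi chi_eq chi_one)
open Cfsg.Agent.H136.M23.BWords (xu chi_xu orderOf_xu exists_dp_xu xu_mem xu_rat)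
open Cfsg.Agent.H66.M23.Loc (DP)
open Cfsg.Agent.H651.HNF (Ty table tyH)
open Cfsg.Agent.LThreeMB (fr)
open Cfsg.Agent.MonsterU Cfsg.Agent.MonsterX
open Subgroup (centralizer zpowers mem_centralizer_singleton_iff)

/-! ### The trace -/

theorem chr_chi (g : MG) : ((chr V g : ℚ) : ℂ) = chi g + 1 := by
  rw [chi_eq, sub_add_cancel]
  rfl

theorem chr_of_chi {g : MG} {a : ℤ} (h : chi g = a) : chr V g = a + 1 := by
  have h1 := chr_chi g
  rw [h] at h1
  exact_mod_cast h1

theorem chi_of_chr {g : MG} {a : ℤ} (h : chr V g = a) : chi g = ((a - 1 : ℤ) : ℂ) := by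
  have h1 := chr_chi g
  rw [h] at h1
  push_cast at h1 ⊢
  rw [h1]
  ring

theorem chr_pow {g : MG} {j : ℕ} (hj : Nat.Coprime j (orderOf g)) : chr V (g ^ j) = chr V g := by
  have h1 := H136.M23.BWords.chi_pow hj
  have h2 : ((chr V (g ^ j) : ℚ) : ℂ) = (chr V g : ℚ) := by rw [chr_chi, chr_chi, h1]
  exact_mod_cast h2

theorem chr_isConj {g h : MG} (hc : IsConj g h) : chr V h = chr V g := by
  obtain ⟨c, rfl⟩ := isConj_iff.1 hc
  exact chr_conj g c

theorem chr_one : chr V (1 : MG) = 196884 := by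
  have h := chr_of_chi (g := 1) (a := 196883) (by rw [chi_one]; norm_num)
  rw [h]
  norm_num

theorem chr_xu : chr V (xu : MG) = 134 := by
  have h := chr_of_chi (g := (xu : MG)) (a := 133) (by rw [chi_xu]; norm_num)
  rw [h]
  norm_num

theorem card_cent_conj {G : Type*} [Group G] {x y : G} (h : IsConj x y) :
    Nat.card (centralizer ({y} : Set G)) = Nat.card (centralizer ({x} : Set G)) := by
  obtain ⟨c, rfl⟩ := isConj_iff.1 h
  have k1 : ∀ a : centralizer ({x} : Set G), c * a.1 * c⁻¹ ∈ centralizer ({c * x * c⁻¹} : Set G) := fun a => by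
    have h1 := mem_centralizer_singleton_iff.1 a.2
    rw [mem_centralizer_singleton_iff]
    calc c * a.1 * c⁻¹ * (c * x * c⁻¹) = c * (a.1 * x) * c⁻¹ := by group
      _ = c * (x * a.1) * c⁻¹ := by rw [h1]
      _ = _ := by group
  have k2 : ∀ a : centralizer ({c * x * c⁻¹} : Set G), c⁻¹ * a.1 * c ∈ centralizer ({x} : Set G) := fun a => by
    have h1 := mem_centralizer_singleton_iff.1 a.2
    rw [mem_centralizer_singleton_iff]
    calc c⁻¹ * a.1 * c * x = c⁻¹ * (a.1 * (c * x * c⁻¹)) * c := by group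
      _ = c⁻¹ * ((c * x * c⁻¹) * a.1) * c := by rw [h1]
      _ = _ := by group
  refine (Nat.card_congr ⟨fun a => ⟨c * a.1 * c⁻¹, k1 a⟩, fun a => ⟨c⁻¹ * a.1 * c, k2 a⟩, fun a => ?_,
    fun a => ?_⟩).symm
  · apply Subtype.ext
    show c⁻¹ * (c * a.1 * c⁻¹) * c = a.1
    group
  · apply Subtype.ext
    show c * (c⁻¹ * a.1 * c) * c⁻¹ = a.1
    group

/-! ### The elements of order 5 -/

theorem inp : H609.T5.Five.Inp KDone.K.ι.range zz (LThreeMB.KChart.eta KDone.lft) pi := by
  have hfin := MFive.Row.finite_model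
  exact ⟨chart, BpSpor.M5.trNe,
    CpAutBFive.Closed.coFive H546.MFiveFull.hJ, H546.MFiveFull.hJ, CpAutBFive.Closed.hnEight, BpSpor.M5.hasPair,
    BpSpor.M5.exists_k BpSpor.M5.hA, H546.MFiveFull.card_model, fun r hr => CpAutBFive.EvenRow.cases hr⟩

theorem fpf {x : centralizer ({zz} : Set MG)} (hx : orderOf x = 5) (hfr : fr (pi x) = 1) :
    LThreeMBTr.Fpf KDone.K (x : MG) :=
  MFive.KPair.fpf (by decide : Odd 5) KDone.lft LThreeB.Row.cent (by rw [← hx, pow_orderOf_eq_one]) hfr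

/-- **fixed rank 0 : the trace is `9`** -/
theorem chr_zero {x : centralizer ({zz} : Set MG)} (hx : orderOf x = 5) (hfr : fr (pi x) = 1) :
    chr V (x : MG) = 9 := by
  have h5 : (x : MG) ^ 5 = 1 := by rw [← Subgroup.coe_pow, ← hx, pow_orderOf_eq_one]; rfl
  have hf := fpf hx hfr
  have hxK : (x : MG) ∈ KDone.K.K := LThreeB.Row.cent x (mem_centralizer_singleton_iff.1 x.2)
  obtain ⟨A, hA3, hA⟩ := MFive.Tr.exists_lift (by decide : Odd 5) hxK h5
  have hq := MFive.Tr.nrm_of KDone.lft (by decide : Odd 5) hxK h5 hf hA3 hA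
  obtain ⟨α, T, hD⟩ := LThreeMBTr.exists_data hxK hA
  have h1 := (MFive.Tr.chr_fpf KDone.lft LThreeMBTr.tens (MFive.Tr.even_form (by decide : Odd 5) h5) hf hD).1
  have h6 := MFive.Tr.chi_five hq hA3
  have h7 : LThreeMBTr.chi (A * A) = -6 := by
    rw [← pow_two]
    exact MFive.Tr.chi_five (MFive.Tr.nrm_sq hq hA3) (by rw [← pow_mul, mul_comm, pow_mul, hA3, one_pow])
  rw [h1, h6, h7, MFive.Tr.tr_five KDone.lft LThreeMBTr.tens h5 hf hA3 hD]
  norm_num

theorem fr_xu : fr (pi xu) = 2 ^ 8 := H136.M23.BMon.fr_eq orderOf_xu xu_mem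

theorem fr_pow {x : centralizer ({zz} : Set MG)} (hx : orderOf x = 5) {n : ℕ} (hn : n % 5 ≠ 0) :
    ∃ c : MG, c * (x : MG) * c⁻¹ = (x : MG) ^ n := by
  have hv5 : x ^ 5 = 1 := by rw [← hx, pow_orderOf_eq_one]
  have hpo : orderOf (pi x) = 5 := MFive.orderOf_pi chart Nat.prime_five (by decide) hx
  obtain ⟨s, hs'⟩ := isConj_iff.1 (CoFive.Ranks.isConj_pow_co1 hpo hn).symm
  obtain ⟨c, hc⟩ := MFive.exists_conj_of_conj chart Nat.prime_five (by decide) hv5 (y := x ^ n)
    (by rw [← pow_mul, mul_comm, pow_mul, hv5, one_pow]) (by rw [map_pow]; exact hs')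
  exact ⟨c, congrArg Subtype.val hc⟩

/-- **The elements of order 5 commuting with a conjugate of `zz`.** -/
theorem five_cases {x₀ : centralizer ({zz} : Set MG)} (hx₀ : orderOf x₀ = 5) (hfr : fr (pi x₀) = 1) {x : MG}
    (hx : orderOf x = 5) (he : ∃ c : MG, Commute (c * zz * c⁻¹) x) : IsConj (xu : MG) x ∨ IsConj (x₀ : MG) x := by
  have := finite
  obtain ⟨g, hg⟩ := he
  have h1 : (g⁻¹ * x * g) * zz = zz * (g⁻¹ * x * g) := by
    calc (g⁻¹ * x * g) * zz = g⁻¹ * (x * (g * zz * g⁻¹)) * g := by group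
      _ = g⁻¹ * ((g * zz * g⁻¹) * x) * g := by rw [hg.eq]
      _ = zz * (g⁻¹ * x * g) := by group
  let y : centralizer ({zz} : Set MG) := ⟨g⁻¹ * x * g, mem_centralizer_singleton_iff.2 h1⟩
  have hyx : IsConj (y : MG) x := isConj_iff.2 ⟨g, by show g * (g⁻¹ * x * g) * g⁻¹ = x; group⟩
  have hy : orderOf y = 5 := by
    rw [← Subgroup.orderOf_coe, ← hx]
    obtain ⟨c, hc⟩ := isConj_iff.1 hyx
    rw [← hc]
    exact ((MulAut.conj c).orderOf_eq (y : MG)).symm
  rcases inp.I.ranks (pi y) (MFive.orderOf_pi chart Nat.prime_five (by decide) hy) with h | h | h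
  · obtain ⟨k, hk⟩ := H609.T5.Five.conj_same chart hy hx₀ (h.trans hfr.symm)
    exact Or.inr ((isConj_iff.2 ⟨k, hk⟩).trans hyx)
  · obtain ⟨k, i, hk⟩ := H609.T5.Five.conj_four inp hx₀ hfr hy h
    have hi : i % 5 ≠ 0 := by
      intro h0
      obtain ⟨m, rfl⟩ := Nat.dvd_of_mod_eq_zero h0
      have h5 : (x₀ : MG) ^ 5 = 1 := by rw [← Subgroup.coe_pow, ← hx₀, pow_orderOf_eq_one]; rfl
      rw [pow_mul, h5, one_pow] at hk
      have h6 : (y : MG) = 1 := by
        calc (y : MG) = k⁻¹ * (k * y * k⁻¹) * k := by group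
          _ = 1 := by rw [hk]; group
      have h7 : y = 1 := Subtype.ext h6
      rw [h7, orderOf_one] at hy
      norm_num at hy
    obtain ⟨c, hc⟩ := fr_pow hx₀ hi
    exact Or.inr (((isConj_iff.2 ⟨c, hc⟩).trans (isConj_iff.2 ⟨k, hk⟩).symm).trans hyx)
  · obtain ⟨k, hk⟩ := H609.T5.Five.conj_same chart hy orderOf_xu (h.trans fr_xu.symm)
    exact Or.inl ((isConj_iff.2 ⟨k, hk⟩).trans hyx)

theorem exists_zero : ∃ x₀ : centralizer ({zz} : Set MG), orderOf x₀ = 5 ∧ fr (pi x₀) = 1 := by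
  obtain ⟨x₀, k, h1, h2, -⟩ := inp.k
  exact ⟨x₀, h1, h2⟩

/-- **the class `5A`** -/
theorem conjA {x : MG} (hx : orderOf x = 5) (he : ∃ c : MG, Commute (c * zz * c⁻¹) x) (h : chr V x ≠ 9) :
    IsConj (xu : MG) x := by
  obtain ⟨x₀, h1, h2⟩ := exists_zero
  refine (five_cases h1 h2 hx he).resolve_right fun h3 => h ?_
  rw [chr_isConj h3, chr_zero h1 h2]

/-- **the class `5B`** -/
theorem conjB {x₀ : centralizer ({zz} : Set MG)} (hx₀ : orderOf x₀ = 5) (hfr : fr (pi x₀) = 1) {x : MG}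
    (hx : orderOf x = 5) (he : ∃ c : MG, Commute (c * zz * c⁻¹) x) (h : chr V x ≠ 134) : IsConj (x₀ : MG) x := by
  refine (five_cases hx₀ hfr hx he).resolve_left fun h3 => h ?_
  rw [chr_isConj h3, chr_xu]

/-- the traces of the elements of order 5 -/
theorem chr_five {x : MG} (hx : orderOf x = 5) (he : ∃ c : MG, Commute (c * zz * c⁻¹) x) :
    chr V x = 134 ∨ chr V x = 9 := by
  obtain ⟨x₀, h1, h2⟩ := exists_zero
  rcases five_cases h1 h2 hx he with h | h
  · exact Or.inl (by rw [chr_isConj h, chr_xu])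
  · exact Or.inr (by rw [chr_isConj h, chr_zero h1 h2])

/-! ### The section of `5A` -/

/-- the complement `T ≅ HN` -/
noncomputable def TH : Subgroup MG := exists_dp_xu.choose

theorem dp : DP Spor.HN 5 (xu : MG) TH := exists_dp_xu.choose_spec

/-- the isomorphism -/
noncomputable def eH : Spor.HN ≃* TH := dp.iso.some.symm

/-- the embedding of `HN` -/
noncomputable def emb : Spor.HN →* MG := TH.subtype.comp eH.toMonoidHom

theorem emb_apply (h : Spor.HN) : emb h = (eH h : MG) := rfl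

theorem emb_inj : Function.Injective emb := TH.subtype_injective.comp eH.injective

theorem emb_mem (h : Spor.HN) : emb h ∈ TH := (eH h).2

theorem exists_emb {t : MG} (ht : t ∈ TH) : ∃ h, emb h = t :=
  ⟨eH.symm ⟨t, ht⟩, by rw [emb_apply, MulEquiv.apply_symm_apply]⟩

theorem orderOf_emb (h : Spor.HN) : orderOf (emb h) = orderOf h := orderOf_injective emb emb_inj h

theorem comm_emb (h : Spor.HN) : Commute (xu : MG) (emb h) :=
  (mem_centralizer_singleton_iff.1 (dp.le (emb_mem h))).symm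

theorem orderOf_xu' : orderOf (xu : MG) = 5 := dp.ord

/-- the elements of `C(xu)` of order prime to 5 -/
theorem mem_emb {y : MG} (hy : Commute (xu : MG) y) (h5 : ¬ 5 ∣ orderOf y) : ∃ h, emb h = y :=
  exists_emb (H136.M23.BWords.DP.mem_of_pow dp hy (m := orderOf y)
    ((Nat.Prime.coprime_iff_not_dvd Nat.prime_five).2 h5).symm (pow_orderOf_eq_one y))

theorem chr_emb {h : Spor.HN} (hh : tyH h ≠ .sing) : chr V ((xu : MG) * emb h) = (tyH h).b + 1 := by
  obtain ⟨b, hb, hv⟩ := H616.M23.exists_b_dp dp chi_xu eH table (H136.M23.BZ.words dp eH)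
  exact chr_of_chi ((hb h).trans (by rw [hv h hh]))

theorem card_cent_xu : Nat.card (centralizer ({(xu : MG)} : Set MG)) = 5 * 273030912000000 := by
  rw [dp.card, ← Nat.card_congr eH.toEquiv, table.card]

theorem orderOf_mul_emb {h : Spor.HN} (h5 : ¬ 5 ∣ orderOf h) : orderOf ((xu : MG) * emb h) = 5 * orderOf h := by
  rw [(comm_emb h).orderOf_mul_eq_mul_orderOf_of_coprime, orderOf_xu', orderOf_emb]
  rw [orderOf_xu', orderOf_emb]
  exact (Nat.Prime.coprime_iff_not_dvd Nat.prime_five).2 h5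

/-- the parts are powers of the product -/
theorem comm_parts {G : Type*} [Group G] {x y c : G} (hxy : Commute x y) (hc : Nat.Coprime (orderOf x) (orderOf y))
    (hx : 0 < orderOf x) (h : Commute c (x * y)) : Commute c x ∧ Commute c y := by
  have h1 : Commute c (x ^ orderOf y) := by
    have h2 := h.pow_right (orderOf y)
    rwa [hxy.mul_pow, pow_orderOf_eq_one, mul_one] at h2
  have h3 : Commute c x := by
    by_cases h4 : orderOf x = 1
    · rw [orderOf_eq_one_iff.1 h4]
      exact Commute.one_right c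
    · obtain ⟨m, -, hm⟩ := Nat.exists_mul_mod_eq_one_of_coprime hc.symm (by omega : 1 < orderOf x)
      have h5 := h1.pow_right m
      rwa [← pow_mul, ← pow_mod_orderOf, hm, pow_one] at h5
  refine ⟨h3, ?_⟩
  have h6 := h3.inv_right.mul_right h
  rwa [inv_mul_cancel_left] at h6

theorem cen_emb {h : Spor.HN} (h5 : ¬ 5 ∣ orderOf h) :
    Nat.card (centralizer ({(xu : MG) * emb h} : Set MG)) = 5 * Nat.card (centralizer ({h} : Set Spor.HN)) := by
  have hcop : Nat.Coprime (orderOf (xu : MG)) (orderOf (emb h)) := by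
    rw [orderOf_xu', orderOf_emb]
    exact (Nat.Prime.coprime_iff_not_dvd Nat.prime_five).2 h5
  have hz : Nat.card (zpowers (xu : MG)) = 5 := by rw [Nat.card_zpowers, orderOf_xu']
  rw [← hz, ← Nat.card_prod]
  symm
  refine Nat.card_congr (Equiv.ofBijective (fun p => ⟨p.1.1 * emb p.2.1, ?_⟩) ⟨?_, ?_⟩)
  · obtain ⟨⟨a, i, rfl⟩, ⟨c, hc⟩⟩ := p
    have h1 : Commute c h := mem_centralizer_singleton_iff.1 hc
    have h2 : Commute (emb c) (emb h) := h1.map emb
    exact mem_centralizer_singleton_iff.2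
      ((((Commute.refl (xu : MG)).zpow_left i).mul_right ((comm_emb h).zpow_left i)).mul_left
        ((comm_emb c).symm.mul_right h2)).eq
  · rintro ⟨a, c⟩ ⟨a', c'⟩ he
    have h1 : a.1 * emb c.1 = a'.1 * emb c'.1 := congrArg Subtype.val he
    have h2 : a'.1⁻¹ * a.1 = emb c'.1 * (emb c.1)⁻¹ := by
      calc a'.1⁻¹ * a.1 = a'.1⁻¹ * (a.1 * emb c.1) * (emb c.1)⁻¹ := by group
        _ = _ := by rw [h1]; group
    have h3 : a'.1⁻¹ * a.1 ∈ zpowers (xu : MG) ⊓ TH :=
      ⟨Subgroup.mul_mem _ (Subgroup.inv_mem _ a'.2) a.2,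
        h2 ▸ Subgroup.mul_mem _ (emb_mem _) (Subgroup.inv_mem _ (emb_mem _))⟩
    rw [dp.disj.eq_bot, Subgroup.mem_bot] at h3
    have h4 : a' = a := Subtype.ext (inv_mul_eq_one.1 h3)
    subst h4
    have h6 : c = c' := Subtype.ext (emb_inj (mul_left_cancel h1))
    rw [h6]
  · rintro ⟨c, hc⟩
    have h1 : Commute c ((xu : MG) * emb h) := mem_centralizer_singleton_iff.1 hc
    obtain ⟨h2, h3⟩ := comm_parts (comm_emb h) hcop (by rw [orderOf_xu']; norm_num) h1
    obtain ⟨i, t, ht, rfl⟩ := dp.split c (mem_centralizer_singleton_iff.2 h2.eq)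
    obtain ⟨k, rfl⟩ := exists_emb ht
    have h4 : Commute (emb k) (emb h) := by
      have h6 := ((comm_emb h).pow_left i).inv_left.mul_left h3
      rwa [inv_mul_cancel_left] at h6
    refine ⟨(⟨(xu : MG) ^ i, Subgroup.pow_mem _ (Subgroup.mem_zpowers _) i⟩, ⟨k, ?_⟩), rfl⟩
    rw [mem_centralizer_singleton_iff]
    apply emb_inj
    rw [map_mul, map_mul]
    exact h4.eq

theorem ne_sing {h : Spor.HN} (h5 : ¬ 5 ∣ orderOf h) : tyH h ≠ .sing := fun h1 => h5 ((table.sing h).1 h1)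

theorem exists_tyH (t : Ty) (ht : t ≠ .sing) : ∃ h : Spor.HN, tyH h = t :=
  H616.M23.exists_ty table t ht (by revert t; decide +kernel)

/-- **The section of `5A`**, with the conjugating element. -/
theorem secA' {x y : MG} (hx : IsConj (xu : MG) x) (hxy : Commute x y) (h5 : ¬ 5 ∣ orderOf y) :
    ∃ (c : MG) (h : Spor.HN), c * (xu : MG) * c⁻¹ = x ∧ c * emb h * c⁻¹ = y ∧ orderOf h = orderOf y := by
  obtain ⟨c, rfl⟩ := isConj_iff.1 hx
  have ho : orderOf (c⁻¹ * y * c) = orderOf y := by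
    have := (MulAut.conj c⁻¹).orderOf_eq y
    simpa using this
  obtain ⟨h, hh⟩ := mem_emb (y := c⁻¹ * y * c) (by
    show (xu : MG) * (c⁻¹ * y * c) = c⁻¹ * y * c * (xu : MG)
    calc (xu : MG) * (c⁻¹ * y * c) = c⁻¹ * (c * (xu : MG) * c⁻¹ * y) * c := by group
      _ = c⁻¹ * (y * (c * (xu : MG) * c⁻¹)) * c := by rw [hxy.eq]
      _ = _ := by group) (by rw [ho]; exact h5)
  exact ⟨c, h, rfl, by rw [hh]; group, by rw [← orderOf_emb, hh, ho]⟩

/-- **The section of `5A`.** -/
theorem secA {x y : MG} (hx : IsConj (xu : MG) x) (hxy : Commute x y) (h5 : ¬ 5 ∣ orderOf y) :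
    ∃ t : Ty, t ≠ .sing ∧ orderOf y = t.ord ∧ chr V (x * y) = t.b + 1 ∧
      Nat.card (centralizer ({x * y} : Set MG)) = 5 * t.cen := by
  obtain ⟨c, h, rfl, rfl, ho⟩ := secA' hx hxy h5
  rw [← ho] at h5
  have hs := ne_sing h5
  have he : c * (xu : MG) * c⁻¹ * (c * emb h * c⁻¹) = c * ((xu : MG) * emb h) * c⁻¹ := by group
  refine ⟨tyH h, hs, ho.symm.trans (table.ord h hs), ?_, ?_⟩
  · rw [he, chr_conj, chr_emb hs]
  · rw [he, card_cent_conj (isConj_iff.2 ⟨c, rfl⟩), cen_emb h5, table.cent h hs]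

/-- for each type there is an element -/
theorem exists_sec (t : Ty) (ht : t ≠ .sing) : ∃ y : MG, Commute (xu : MG) y ∧ orderOf y = t.ord ∧
    orderOf ((xu : MG) * y) = 5 * t.ord ∧ chr V ((xu : MG) * y) = t.b + 1 ∧
    Nat.card (centralizer ({(xu : MG) * y} : Set MG)) = 5 * t.cen := by
  obtain ⟨h, rfl⟩ := exists_tyH t ht
  have h5 : ¬ 5 ∣ orderOf h := fun h1 => ht ((table.sing h).2 h1)
  exact ⟨emb h, comm_emb h, by rw [orderOf_emb, table.ord h ht], by rw [orderOf_mul_emb h5, table.ord h ht],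
    chr_emb ht, by rw [cen_emb h5, table.cent h ht]⟩

/-- the centralizer of an element `g` of order `5 m` whose `5`-part is in the class `5A` -/
theorem cen_of_pow {g : MG} {m : ℕ} (hm : ¬ 5 ∣ m) (ho : orderOf g = 5 * m) (hx : IsConj (xu : MG) (g ^ m)) :
    ∃ t : Ty, t ≠ .sing ∧ t.ord = m ∧ chr V g = t.b + 1 ∧ Nat.card (centralizer ({g} : Set MG)) = 5 * t.cen := by
  have := finite
  have hcop : Nat.Coprime 5 m := (Nat.Prime.coprime_iff_not_dvd Nat.prime_five).2 hm
  have hm0 : m ≠ 0 := fun h => hm (h ▸ dvd_zero 5)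
  obtain ⟨a, ha5, ham⟩ := Nat.chineseRemainder hcop 1 0
  obtain ⟨b, hb5, hbm⟩ := Nat.chineseRemainder hcop 0 1
  obtain ⟨a', rfl⟩ : m ∣ a := (Nat.modEq_zero_iff_dvd).1 ham
  have hg : g ^ (m * a') * g ^ b = g := by
    rw [← pow_add]
    conv_rhs => rw [← pow_one g]
    rw [pow_eq_pow_iff_modEq, ho]
    refine (Nat.modEq_and_modEq_iff_modEq_mul hcop).1 ⟨?_, ?_⟩
    · simpa using ha5.add hb5
    · simpa using ham.add hbm
  have ha' : a' % 5 ≠ 0 := by
    intro h0
    obtain ⟨k, rfl⟩ := Nat.dvd_of_mod_eq_zero h0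
    have h1 : m * (5 * k) ≡ 0 [MOD 5] := (Nat.modEq_zero_iff_dvd).2 ⟨m * k, by ring⟩
    have h2 := ha5.symm.trans h1
    revert h2
    decide
  have hx' : IsConj (xu : MG) (g ^ (m * a')) := by
    obtain ⟨c, hc⟩ := isConj_iff.1 hx
    obtain ⟨d, hd⟩ := xu_rat a' ha'
    refine isConj_iff.2 ⟨c * d, ?_⟩
    calc c * d * (xu : MG) * (c * d)⁻¹ = c * (d * (xu : MG) * d⁻¹) * c⁻¹ := by group
      _ = _ := by rw [hd, ← conj_pow, hc, pow_mul]
  have hob : orderOf (g ^ b) = m := by
    obtain ⟨b', rfl⟩ : 5 ∣ b := (Nat.modEq_zero_iff_dvd).1 hb5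
    have h1 : orderOf (g ^ 5) = m := by
      rw [orderOf_pow' g (by norm_num), ho, Nat.gcd_mul_right_left, Nat.mul_div_cancel_left m (by norm_num)]
    rw [pow_mul, Nat.Coprime.orderOf_pow, h1]
    rw [h1]
    have h2 : Nat.Coprime (5 * b') m := by
      rw [Nat.coprime_iff_gcd_eq_one, hbm.gcd_eq]
      simp
    exact h2.coprime_mul_left.symm
  obtain ⟨t, h1, h2, h3, h4⟩ := secA hx' ((Commute.refl g).pow_pow (m * a') b) (by rw [hob]; exact hm)
  rw [hg] at h3 h4
  exact ⟨t, h1, h2.symm.trans hob, h3, h4⟩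

end Cfsg.Agent.TAB.M5

private theorem dce_58c3e0051fd2 : _root_.True := by
  try have : _root_.True := by simp only [_root_.Cfsg.Agent.LThreeMBTr.chr.congr_simp]
  exact _root_.True.intro
end

-- part: TAB/M5/BoxA
section
prune_inst 0x10100101240000000000000020000080200000000000000021000000010100008000000002000000808414000000000001100100021800000a000000000500000000000000000000000000808080180c00000000000000000000000000000000000000000
set_option linter.all false
open scoped Cfsg.Agent.FastGrp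

/-!
# The Monster: the boxes `5A`, `10A`, `15A`, `20B`, `30B`, `40A`, `60A` (helper71, TAB)
-/

set_option autoImplicit false
set_option maxRecDepth 100000

namespace Cfsg.Agent.TAB.M5

open Cfsg Cfsg.Agent.BpSpor.MBigModel Cfsg.Agent.TAB.Eng Cfsg.Agent.TAB.M
open Cfsg.Agent.MonsterX.Space (V)
open Cfsg.Agent.LThreeMBTr (chr chr_conj)
open Cfsg.Agent.H136.M23 Cfsg.Agent.H136.M23.BWords Cfsg.Agent.H136.M23.BTr
open Cfsg.Agent.H651.HNF (Ty)
open Cfsg.Agent.MonsterX.Conc Cfsg.Agent.MonsterX.ConcGrp Cfsg.Agent.MonsterX.InstData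
open Subgroup (centralizer zpowers mem_centralizer_singleton_iff)

theorem ty_pow {i : ℕ} (hi : i < 171) {g : MG} (hg : TyM i g) (k : ℕ) {j : ℕ} (h : dat.pwf i k = j) :
    TyM j (g ^ k) := h ▸ (@Eng.Ty.pow MG _ _ key dat val finite okPow i hi g hg k).2

/-- the strong box from an element and a bound of its centralizer -/
theorem boxC_of {i c : ℕ} {g : MG} (hg : TyM i g) (hc : Nat.card (centralizer ({g} : Set MG)) ≤ c)
    (h : dat.cnt i * c ≤ 808017424794512875886459904961710757005754368000000000) : BoxCM i :=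
  BoxC.of_le hg hc (by rw [card_M]; exact h)

/-- a box in the section of `5A` -/
theorem boxC_sec {i m c : ℕ} {v : ℤ} {g : MG} (hg : TyM i g) (hm : ¬ 5 ∣ m) (ho : orderOf g = 5 * m)
    (hx : IsConj (xu : MG) (g ^ m)) (hv : chr V g = v)
    (hd : ∀ t : Ty, t ≠ .sing → t.ord = m → t.b + 1 = v → 5 * t.cen ≤ c)
    (h : dat.cnt i * c ≤ 808017424794512875886459904961710757005754368000000000) : BoxCM i := by
  obtain ⟨t, h1, h2, h3, h4⟩ := cen_of_pow hm ho hx
  refine boxC_of hg (h4.le.trans (hd t h1 h2 ?_)) h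
  rw [hv] at h3
  exact_mod_cast h3.symm

theorem chr_gN {w : List ℕ} (h : w.all inN = true) {n : ℕ} {a b : ℕ}
    (ht : LinearMap.trace ℚ V (W (pw n w) : V →ₗ[ℚ] V) = (a : ℚ) - (b : ℕ)) :
    chr V ((gN w h : MG) ^ n) = (a : ℚ) - b := by
  have h1 := chr_of_chi (chi_gN h ht)
  rw [h1]
  push_cast
  ring

theorem conj_gN {w : List ℕ} (h : w.all inN = true) {m : ℕ} (h1 : (gN w h : MG) ^ (5 * m) = 1)
    (h5 : (gN w h : MG) ^ m ≠ 1) : IsConj (xu : MG) ((gN w h : MG) ^ m) := by
  have : Fact (Nat.Prime 5) := ⟨Nat.prime_five⟩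
  have o : orderOf (gN w h ^ m) = 5 := by
    refine orderOf_eq_prime (Subtype.ext ?_) fun h2 => h5 (congrArg Subtype.val h2)
    rw [← pow_mul, mul_comm, Subgroup.coe_pow, h1]
    rfl
  obtain ⟨c, hc⟩ := BMon.exists_conj orderOf_xu o xu_mem (gN_mem h m)
  exact isConj_iff.2 ⟨c, congrArg Subtype.val hc⟩

theorem ne_one_of_chr {g : MG} {v : ℚ} (h : chr V g = v) (hv : v ≠ 196884) : g ≠ 1 := by
  rintro rfl
  exact hv (h.symm.trans chr_one)

theorem wB_all : wB.all inN = true := by decide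

theorem wC_all : wC.all inN = true := by decide

/-- an element of the class `60A` -/
noncomputable def gB : MG := gN wB wB_all

/-- an element of the class `40A` -/
noncomputable def gC : MG := gN wC wC_all

theorem gB_conj : IsConj (xu : MG) (gB ^ 12) :=
  conj_gN wB_all (m := 12) (gN_pow_eq_one wB_all BOrd.wB_pow) (ne_of wB_all BOrd.wB_ne)

theorem gC_conj : IsConj (xu : MG) (gC ^ 8) :=
  conj_gN wC_all (m := 8) (gN_pow_eq_one wC_all BOrd.wC_pow) (ne_of wC_all BOrd.wC_ne)

theorem gB_ord : orderOf gB = 60 := by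
  refine orderOf_eq_of_pow_and_pow_div_prime (by norm_num) (gN_pow_eq_one wB_all BOrd.wB_pow) fun p hp hd => ?_
  have h1 : p ≤ 60 := Nat.le_of_dvd (by norm_num) hd
  have h2 : p = 2 ∨ p = 3 ∨ p = 5 := by
    interval_cases p <;> first | omega | exact absurd hp (by norm_num)
  rcases h2 with rfl | rfl | rfl
  · exact ne_one_of_chr (chr_gN wB_all wB_t30) (by norm_num)
  · exact ne_one_of_chr (chr_gN wB_all wB_t20) (by norm_num)
  · exact ne_of wB_all BOrd.wB_ne

theorem gC_ord : orderOf gC = 40 := by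
  refine orderOf_eq_of_pow_and_pow_div_prime (by norm_num) (gN_pow_eq_one wC_all BOrd.wC_pow) fun p hp hd => ?_
  have h1 : p ≤ 40 := Nat.le_of_dvd (by norm_num) hd
  have h2 : p = 2 ∨ p = 5 := by
    interval_cases p <;> first | omega | exact absurd hp (by norm_num)
  rcases h2 with rfl | rfl
  · exact ne_one_of_chr (chr_gN wC_all wC_t20) (by norm_num)
  · exact ne_of wC_all BOrd.wC_ne

theorem gB_ty : TyM 142 gB := by
  refine (tyM_iff sg_60A gB).2 ⟨gB_ord, fun p hp => ?_⟩
  simp only [List.mem_cons, List.not_mem_nil, or_false] at hp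
  rcases hp with rfl | rfl | rfl | rfl | rfl | rfl | rfl | rfl | rfl | rfl | rfl
  · exact (chr_gN wB_all wB_t1).trans (by norm_num)
  · exact (chr_gN wB_all wB_t2).trans (by norm_num)
  · exact (chr_gN wB_all wB_t3).trans (by norm_num)
  · exact (chr_gN wB_all wB_t4).trans (by norm_num)
  · exact (chr_gN wB_all wB_t5).trans (by norm_num)
  · exact (chr_gN wB_all wB_t6).trans (by norm_num)
  · exact (chr_gN wB_all wB_t10).trans (by norm_num)
  · exact ((chr_isConj gB_conj).trans chr_xu).trans (by norm_num)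
  · exact (chr_gN wB_all wB_t15).trans (by norm_num)
  · exact (chr_gN wB_all wB_t20).trans (by norm_num)
  · exact (chr_gN wB_all wB_t30).trans (by norm_num)

theorem gC_ty : TyM 118 gC := by
  refine (tyM_iff sg_40A gC).2 ⟨gC_ord, fun p hp => ?_⟩
  simp only [List.mem_cons, List.not_mem_nil, or_false] at hp
  rcases hp with rfl | rfl | rfl | rfl | rfl | rfl | rfl
  · exact (chr_gN wC_all wC_t1).trans (by norm_num)
  · exact (chr_gN wC_all wC_t2).trans (by norm_num)
  · exact (chr_gN wC_all wC_t4).trans (by norm_num)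
  · exact (chr_gN wC_all wC_t5).trans (by norm_num)
  · exact ((chr_isConj gC_conj).trans chr_xu).trans (by norm_num)
  · exact (chr_gN wC_all wC_t10).trans (by norm_num)
  · exact (chr_gN wC_all wC_t20).trans (by norm_num)

theorem ty_first {i o : ℕ} {v : ℤ} {l : List (ℕ × ℤ)} (h : sg dat val i = (o, (1, v) :: l)) {g : MG} (hg : TyM i g) :
    orderOf g = o ∧ chr V g = v := by
  obtain ⟨h1, h2⟩ := (tyM_iff h g).1 hg
  have h3 := h2 (1, v) List.mem_cons_self
  rw [pow_one] at h3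
  exact ⟨h1, h3⟩

theorem xu_ty : TyM 10 (xu : MG) := by
  refine (tyM_iff sg_5A _).2 ⟨orderOf_xu', fun p hp => ?_⟩
  rw [List.mem_singleton.1 hp, pow_one, chr_xu]
  norm_num

theorem boxC_5A : BoxCM 10 := boxC_of xu_ty card_cent_xu.le (by rw [cnt_5A])

theorem boxC_60A : BoxCM 142 :=
  boxC_sec (m := 12) (c := 360) gB_ty (by norm_num) gB_ord gB_conj (ty_first sg_60A gB_ty).2 (by decide +kernel)
    (by rw [cnt_60A])

theorem boxC_40A : BoxCM 118 :=
  boxC_sec (m := 8) (c := 400) gC_ty (by norm_num) gC_ord gC_conj (ty_first sg_40A gC_ty).2 (by decide +kernel)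
    (by rw [cnt_40A])

theorem boxC_30B : BoxCM 96 := by
  have h : TyM 96 (gB ^ 2) := ty_pow (by norm_num) gB_ty 2 (by decide +kernel)
  exact boxC_sec (m := 6) (c := 7200) h (by norm_num) (ty_first sg_30B h).1 (by rw [← pow_mul]; exact gB_conj)
    (ty_first sg_30B h).2 (by decide +kernel) (by rw [cnt_30B])

theorem boxC_20B : BoxCM 64 := by
  have h : TyM 64 (gB ^ 3) := ty_pow (by norm_num) gB_ty 3 (by decide +kernel)
  exact boxC_sec (m := 4) (c := 28800) h (by norm_num) (ty_first sg_20B h).1 (by rw [← pow_mul]; exact gB_conj)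
    (ty_first sg_20B h).2 (by decide +kernel) (by rw [cnt_20B])

theorem boxC_15A : BoxCM 49 := by
  have h : TyM 49 (gB ^ 4) := ty_pow (by norm_num) gB_ty 4 (by decide +kernel)
  exact boxC_sec (m := 3) (c := 2721600) h (by norm_num) (ty_first sg_15A h).1 (by rw [← pow_mul]; exact gB_conj)
    (ty_first sg_15A h).2 (by decide +kernel) (by rw [cnt_15A])

theorem boxC_10A : BoxCM 28 := by
  have h : TyM 28 (gB ^ 6) := ty_pow (by norm_num) gB_ty 6 (by decide +kernel)
  exact boxC_sec (m := 2) (c := 887040000) h (by norm_num) (ty_first sg_10A h).1 (by rw [← pow_mul]; exact gB_conj)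
    (ty_first sg_10A h).2 (by decide +kernel) (by rw [cnt_10A])

theorem box_5A : BoxM 10 := boxC_5A.box

theorem box_10A : BoxM 28 := boxC_10A.box

theorem box_15A : BoxM 49 := boxC_15A.box

theorem box_20B : BoxM 64 := boxC_20B.box

theorem box_30B : BoxM 96 := boxC_30B.box

theorem box_40A : BoxM 118 := boxC_40A.box

theorem box_60A : BoxM 142 := boxC_60A.box

end Cfsg.Agent.TAB.M5
end

-- part: TAB/M5/B
section
prune_inst 0x10100101004000000000000000000080000000000040000100400000000000018004000000000200800000002002800001000109000800002000820000050000042000408008000001000080c880180c00000000000000000000000000000000000000000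
set_option linter.all false
open scoped Cfsg.Agent.FastGrp

/-!
# The Monster: the section of the class `5B` (helper71, TAB)

`x0` : an element of the class `5B`, `DD = C(x0)`; bounds for the centralizers of the elements of the types
`10C`, `15C`, `15D`, `30F`.
-/

set_option autoImplicit false
set_option maxRecDepth 100000

namespace Cfsg.Agent.TAB.M5

open Cfsg Cfsg.Agent.BpSpor.MBigModel Cfsg.Agent.TAB.Eng Cfsg.Agent.TAB.M
open Cfsg.Agent.MonsterX Cfsg.Agent.LThreeMB Cfsg.Agent.LThreeMBTr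
open Cfsg.Agent.MonsterX.Space (V)
open Cfsg.Agent.LThreeB.Row (TA)
open Cfsg.Agent.H199.NSmMon (Ev)
open Cfsg.Agent.H136.M23.BWords (xu)
open Subgroup (centralizer zpowers mem_centralizer_singleton_iff)

/-! ### Elements of order three -/

theorem three_in {x : centralizer ({zz} : Set MG)} (hx : orderOf x = 3) :
    chr V (x : MG) = 54 ∧ Nat.card (centralizer ({(x : MG)} : Set MG)) ∣ 3 ^ 13 * (448345497600 * 2) ∨
      fr (pi x) = 2 ^ 8 ∨ chr V (x : MG) = 783 := by
  have := finite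
  have := simple
  have I := CoOneFin.coOne
  have htr := KPair.trNe KDone.lft LThreeB.Row.cent (LThreeMBTr.traceNe KDone.lft LThreeMBTr.TensK.tens)
  rcases I.ranks (pi x) (orderOf_pi chart hx) with h1 | h1 | h1 | h1
  · exact Or.inl ⟨M4.chr_zero hx h1, H199.AbMon.three_zero' hx h1⟩
  · left
    obtain ⟨x₀, u, g, hx₀, hfr₀, huz, hux, hne, hg⟩ :=
      KPair.hasPair KDone.lft LThreeB.Row.cent PreUniq.MonRow.second COct.octPair
    obtain ⟨k, hk⟩ := conj_six chart htr I.ranks I.six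
      (fun x hx h2 => ⟨(good_of_inputs chart I hx h2 : Good.{0} _).simple, (good_of_inputs chart I hx h2 : Good.{0} _).nc⟩)
      hx₀ hfr₀ huz hux hne hg hx h1
    refine ⟨?_, ?_⟩
    · rw [← chr_conj (x : MG) k, hk]
      exact M4.chr_zero hx₀ hfr₀
    · rw [← card_cent_conj (isConj_iff.2 ⟨k, hk⟩)]
      exact H199.AbMon.three_zero' hx₀ hfr₀
  · exact Or.inr (Or.inl h1)
  · exact Or.inr (Or.inr (M4.chr_twelve hx h1))

theorem chr_eight {x : centralizer ({zz} : Set MG)} (hx : orderOf x = 3) (hfr : fr (pi x) = 2 ^ 8) :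
    chr V (x : MG) = 0 := by
  obtain ⟨h1, h2⟩ := ty_first sg_3C M4.ty_3C
  let y : centralizer ({zz} : Set MG) := ⟨_, mem_centralizer_singleton_iff.2 (M4.gw_comm (w := [38, 36, 22]) (by decide))⟩
  have hy : orderOf y = 3 := by rw [Subgroup.orderOf_mk, h1]
  have h3 : chr V (y : MG) = 0 := by exact_mod_cast h2
  have h4 : fr (pi y) = 2 ^ 8 := by
    rcases three_in hy with h | h | h
    · rw [h3] at h
      norm_num only [_root_.false_and] at h
    · exact h
    · rw [h3] at h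
      norm_num at h
  obtain ⟨s, hs⟩ := CoOneFin.coOne.eight (pi y) (pi x) (orderOf_pi chart hy) (orderOf_pi chart hx) h4 hfr
  obtain ⟨c, hc⟩ := exists_conj_of_conj chart (by rw [← hy, pow_orderOf_eq_one]) (by rw [← hx, pow_orderOf_eq_one]) hs
  rw [← h3]
  exact chr_isConj (isConj_iff.2 ⟨c, congrArg Subtype.val hc⟩)

theorem orderOf_isConj {G : Type*} [Group G] {x y : G} (h : IsConj x y) : orderOf y = orderOf x := by
  obtain ⟨c, rfl⟩ := isConj_iff.1 h
  exact (MulAut.conj c).orderOf_eq x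

theorem ev_in {g : MG} (h : Ev g) : ∃ y : centralizer ({zz} : Set MG), IsConj g y := by
  obtain ⟨c, hc⟩ := M7.ev_iff.1 h
  exact ⟨⟨_, mem_centralizer_singleton_iff.2 hc⟩, isConj_iff.2 ⟨c, rfl⟩⟩

theorem ev_pow {g : MG} (h : Ev g) (k : ℕ) : Ev (g ^ k) := by
  obtain ⟨c, hc⟩ := h
  exact ⟨c, ((show Commute (c * zz * c⁻¹) g from hc).pow_right k).eq⟩

theorem ev_isConj {g g' : MG} (h : Ev g) (hc : IsConj g g') : Ev g' := by
  obtain ⟨c, rfl⟩ := isConj_iff.1 hc
  obtain ⟨d, hd⟩ := h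
  refine ⟨c * d, ?_⟩
  calc c * d * zz * (c * d)⁻¹ * (c * g * c⁻¹) = c * (d * zz * d⁻¹ * g) * c⁻¹ := by group
    _ = c * (g * (d * zz * d⁻¹)) * c⁻¹ := by rw [hd]
    _ = _ := by group

/-- **The elements of order three commuting with a conjugate of `zz`.** -/
theorem three_cases {s : MG} (hs : orderOf s = 3) (he : Ev s) :
    chr V s = 54 ∧ Nat.card (centralizer ({s} : Set MG)) ∣ 3 ^ 13 * (448345497600 * 2) ∨ chr V s = 0 ∨
      chr V s = 783 := by
  obtain ⟨y, hy⟩ := ev_in he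
  have h1 : orderOf y = 3 := by rw [← Subgroup.orderOf_coe, orderOf_isConj hy, hs]
  rw [← chr_isConj hy, ← card_cent_conj hy]
  rcases three_in h1 with h | h | h
  · exact Or.inl h
  · exact Or.inr (Or.inl (chr_eight h1 h))
  · exact Or.inr (Or.inr h)

theorem three54 {s : MG} (hs : orderOf s = 3) (he : Ev s) (h : chr V s = 54) :
    ¬ 125 ∣ Nat.card (centralizer ({s} : Set MG)) := by
  intro h1
  rcases three_cases hs he with h2 | h2 | h2
  · exact absurd (h1.trans h2.2) (by norm_num)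
  · rw [h] at h2
    norm_num at h2
  · rw [h] at h2
    norm_num at h2

/-! ### The element `x0` -/

/-- an element of the class `5B` -/
noncomputable def x0 : centralizer ({zz} : Set MG) := exists_zero.choose

theorem x0_ord : orderOf x0 = 5 := exists_zero.choose_spec.1

theorem x0_fr : fr (pi x0) = 1 := exists_zero.choose_spec.2

theorem x0_ord' : orderOf (x0 : MG) = 5 := by rw [Subgroup.orderOf_coe, x0_ord]

theorem chr_x0 : chr V (x0 : MG) = 9 := chr_zero x0_ord x0_fr

theorem x0_comm : (x0 : MG) * zz = zz * x0 := mem_centralizer_singleton_iff.1 x0.2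

theorem x0_ty : TyM 11 (x0 : MG) := by
  refine (tyM_iff sg_5B _).2 ⟨x0_ord', fun p hp => ?_⟩
  rw [List.mem_singleton.1 hp, pow_one, chr_x0]
  norm_num

theorem boxC_5B : BoxCM 11 :=
  boxC_of x0_ty (Nat.le_of_dvd (by norm_num) (H58.MonFiveB.card_dvd x0_ord x0_fr)) (by rw [cnt_5B]; norm_num)

theorem box_5B : BoxM 11 := boxC_5B.box

/-- the centralizer of `x0` -/
abbrev DD : Type := centralizer ({(x0 : MG)} : Set MG)

theorem exists_loc : ∃ (S : Subgroup DD) (ρ : DD →* XX (pi x0)), Loc (zD x0) (self (x0 : MG)) S ρ := by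
  have := finite
  obtain ⟨h1, h2, -, ⟨N, ρ, S, h⟩, -⟩ := H609.T5.Five.exists_local inp x0_ord x0_fr
  exact ⟨S, ρ, loc_of_rs h2 h (H58.MonFiveB.card_dvd x0_ord x0_fr)⟩

/-- the radical -/
noncomputable def SS : Subgroup DD := exists_loc.choose

/-- the map onto `J₂` -/
noncomputable def rho : DD →* XX (pi x0) := exists_loc.choose_spec.choose

theorem loc : Loc (zD x0) (self (x0 : MG)) SS rho := exists_loc.choose_spec.choose_spec

theorem conj_x0 {x : MG} (hx : orderOf x = 5) (he : Ev x) (h : chr V x = 9) : IsConj (x0 : MG) x :=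
  conjB x0_ord x0_fr hx he (by rw [h]; norm_num)

theorem exists_root {g : MG} {m : ℕ} (h : IsConj (x0 : MG) (g ^ m)) : ∃ g', IsConj g g' ∧ g' ^ m = x0 := by
  obtain ⟨c, hc⟩ := isConj_iff.1 h.symm
  exact ⟨c * g * c⁻¹, isConj_iff.2 ⟨c, rfl⟩, by rw [conj_pow, hc]⟩

theorem card_D_dvd (s : DD) :
    Nat.card (centralizer ({s} : Set DD)) ∣ Nat.card (centralizer ({(s : MG)} : Set MG)) := by
  rw [← Subgroup.card_map_of_injective (centralizer ({(x0 : MG)} : Set MG)).subtype_injective]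
  refine Subgroup.card_dvd_of_le ?_
  rintro _ ⟨c, hc, rfl⟩
  exact mem_centralizer_singleton_iff.2 (congrArg Subtype.val (mem_centralizer_singleton_iff.1 hc))

theorem card_dvd_D {g : MG} (s : DD) (h : ∀ c, Commute c g → Commute c (x0 : MG) ∧ Commute c (s : MG)) :
    Nat.card (centralizer ({g} : Set MG)) ∣ Nat.card (centralizer ({s} : Set DD)) := by
  rw [← Subgroup.card_map_of_injective (K := centralizer ({s} : Set DD))
    (centralizer ({(x0 : MG)} : Set MG)).subtype_injective]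
  refine Subgroup.card_dvd_of_le fun c hc => ?_
  obtain ⟨h1, h2⟩ := h c (mem_centralizer_singleton_iff.1 hc)
  exact ⟨⟨c, mem_centralizer_singleton_iff.2 h1⟩, mem_centralizer_singleton_iff.2 (Subtype.ext h2), rfl⟩

/-- the power `g ^ k` as an element of `DD` -/
noncomputable def pwD {g : MG} {m : ℕ} (h : g ^ m = x0) (k : ℕ) : DD :=
  ⟨g ^ k, mem_centralizer_singleton_iff.2 (by rw [← h]; exact ((Commute.refl g).pow_pow k m).eq)⟩

theorem card_dvd_pwD {g : MG} {m : ℕ} (h : g ^ m = x0) (k : ℕ) :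
    Nat.card (centralizer ({g} : Set MG)) ∣ Nat.card (centralizer ({pwD h k} : Set DD)) :=
  card_dvd_D _ fun _ hc => ⟨h ▸ hc.pow_right m, hc.pow_right k⟩

theorem rho_ta {s : DD} (h : TA (s : MG)) (hs : orderOf s = 2) : orderOf (rho s) = 2 := by
  refine Loc.ord_rho Nat.prime_two hs fun h1 => ?_
  have h2 := loc.inv_ker (by rw [← pow_two, ← hs, pow_orderOf_eq_one]) (fun h3 => by
    rw [h3, orderOf_one] at hs
    norm_num at hs) h1
  obtain ⟨c, hc⟩ := isConj_iff.1 h2
  have h3 : chr V (s : MG) = chr V zz := chr_isConj (isConj_iff.2 ⟨c, congrArg Subtype.val hc⟩)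
  rw [M4.chr_ta h, M4.chr_zz] at h3
  norm_num at h3

/-- `10C` -/
theorem cen_two {s : DD} (h : TA (s : MG)) (hs : orderOf s = 2) :
    Nat.card (centralizer ({s} : Set DD)) ∣ 12000000 := by
  obtain ⟨a, b, h1, h2, h3, -, -⟩ := loc.card_cen s
  have h4 : Nat.card (centralizer ({rho s} : Set (XX (pi x0)))) ∣ 1920 :=
    j2_cent loc.iso (rho_ta h hs) (P := (· ∣ 1920)) (by decide +kernel)
  have h5 : Nat.card (centralizer ({s} : Set DD)) ∣ 1920 * (2 * 5 ^ 7) := by
    rw [h1]
    exact mul_dvd_mul (h2.trans h4) (h3.trans (mul_dvd_mul_left 2 (loc.card_S _)))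
  have h6 := card_D_dvd s
  rw [card_cent_t h] at h6
  exact (Nat.dvd_gcd h5 h6).trans (by decide +kernel)

theorem fix_54 {s : DD} (hs : orderOf s = 3) (he : Ev (s : MG)) (h : chr V (s : MG) = 54) :
    Nat.card (centralizer ({s} : Set DD) ⊓ SS : Subgroup DD) = 5 := by
  have := finite
  refine (loc.fix_three hs).resolve_right fun h1 => three54 (by rw [Subgroup.orderOf_coe, hs]) he h ?_
  exact (h1.trans (Subgroup.card_dvd_of_le inf_le_left)).trans (card_D_dvd s)

theorem cen_j2_three {s : DD} (hs : orderOf s = 3) :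
    Nat.card (centralizer ({rho s} : Set (XX (pi x0)))) = 1080 ∨
      Nat.card (centralizer ({rho s} : Set (XX (pi x0)))) = 36 :=
  j2_cent loc.iso (loc.rho_three hs) (P := fun n => n = 1080 ∨ n = 36) (by decide +kernel)

/-- `15C` -/
theorem cen_54 {s : DD} (hs : orderOf s = 3) (he : Ev (s : MG)) (h : chr V (s : MG) = 54) :
    Nat.card (centralizer ({s} : Set DD)) ∣ 10800 := by
  obtain ⟨a, b, h1, h2, h3, -, -⟩ := loc.card_cen s
  rw [fix_54 hs he h] at h3
  rw [h1]
  refine (mul_dvd_mul (h2.trans (?_ : _ ∣ 1080)) h3).trans (by norm_num)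
  rcases cen_j2_three hs with h4 | h4 <;> rw [h4]
  norm_num

/-- `15D` -/
theorem cen_zero {s : DD} (hs : orderOf s = 3) (hsz : s * zD x0 = zD x0 * s)
    (h : 125 ∣ Nat.card (centralizer ({s} : Set DD) ⊓ SS : Subgroup DD)) :
    Nat.card (centralizer ({s} : Set DD)) ∣ 9000 := by
  have := finite
  have : Fact (Nat.Prime 5) := ⟨Nat.prime_five⟩
  obtain ⟨a, b, h1, h2, h3, h4, h5⟩ := loc.card_cen s
  have h6 : ¬ 5 ^ 4 ∣ a * b := fun h7 =>
    H58.MonFiveB.three (x := (s : MG)) (by rw [Subgroup.orderOf_coe, hs])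
      (M7.ev_of_comm (congrArg Subtype.val hsz)) ((h1 ▸ h7).trans (card_D_dvd s))
  rcases cen_j2_three hs with h7 | h7
  · exfalso
    have : Finite (centralizer ({rho s} : Set (XX (pi x0)))) := Nat.finite_of_card_ne_zero (by rw [h7]; norm_num)
    obtain ⟨u, hu⟩ := exists_prime_orderOf_dvd_card' (G := centralizer ({rho s} : Set (XX (pi x0)))) 5
      (by rw [h7]; norm_num)
    obtain ⟨c, hc1, hc2⟩ := loc.lift_comm hs hsz (mem_centralizer_singleton_iff.1 u.2)
    have h8 := h5 c hc1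
    rw [hc2, Subgroup.orderOf_coe, hu] at h8
    exact h6 (show 5 * 125 ∣ a * b from mul_dvd_mul h8 (h.trans h4))
  · obtain ⟨i, hi, h8⟩ := (Nat.dvd_prime_pow Nat.prime_five).1 (loc.card_S (centralizer ({s} : Set DD)))
    rw [h8] at h3 h4
    have h9 : i ≤ 3 := by
      by_contra h10
      exact h6 (((pow_dvd_pow 5 (by omega)).trans h4).mul_left a)
    rw [h7] at h2
    rw [h1]
    exact (mul_dvd_mul h2 (h3.trans (mul_dvd_mul_left 2 (pow_dvd_pow 5 h9)))).trans (by norm_num)

/-- `30F` -/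
theorem cen_six {s : DD} (hs : orderOf s = 6) (he : Ev (s : MG)) (h2 : chr V ((s : MG) ^ 2) = 54)
    (h3 : TA ((s : MG) ^ 3)) : Nat.card (centralizer ({s} : Set DD)) ∣ 240 := by
  have := finite
  obtain ⟨a, b, h4, h5, h6, -, -⟩ := loc.card_cen s
  have o2 : orderOf (s ^ 2) = 3 := by rw [orderOf_pow, hs]; rfl
  have o3 : orderOf (s ^ 3) = 2 := by rw [orderOf_pow, hs]; rfl
  have r2 := loc.rho_three o2
  have r3 := rho_ta (s := s ^ 3) (by exact h3) o3
  have r6 : orderOf (rho s) = 6 := by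
    rw [map_pow] at r2 r3
    refine Nat.dvd_antisymm (hs ▸ orderOf_map_dvd rho s) (Nat.Coprime.mul_dvd_of_dvd_of_dvd (m := 2) (n := 3)
      (by norm_num) (r3 ▸ orderOf_pow_dvd 3) (r2 ▸ orderOf_pow_dvd 2))
  have h7 : Nat.card (centralizer ({rho s} : Set (XX (pi x0)))) ∣ 24 :=
    j2_cent loc.iso r6 (P := (· ∣ 24)) (by decide +kernel)
  have h8 : Nat.card (centralizer ({s} : Set DD) ⊓ SS : Subgroup DD) ∣ 5 := by
    rw [← fix_54 o2 (ev_pow he 2) h2]
    refine Subgroup.card_dvd_of_le (inf_le_inf_right _ fun c hc => ?_)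
    exact mem_centralizer_singleton_iff.2 ((show Commute c s from mem_centralizer_singleton_iff.1 hc).pow_right 2).eq
  rw [h4]
  exact (mul_dvd_mul (h5.trans h7) (h6.trans (mul_dvd_mul_left 2 h8))).trans (by norm_num)

end Cfsg.Agent.TAB.M5
end
end
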